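import Cfsg.Agent.H15.MT.B.D0

/-! Generated by tools/h15/mt/mt.py. -/

set_option maxRecDepth 100000
set_option maxHeartbeats 0

namespace H15.MT
open scoped H19
open H15.NS H15.TG H16 H0.TR
open scoped commutatorElement

theorem aa3_a : allZ2 (tupEnt aaP aaT aaR (nat_lit 24) (nat_lit 480) (nat_lit 5)) (nat_lit 52) (nat_lit 480) = true := by decide +kernel
theorem zz3_a : allZ2 (tupEnt zzP zzT zzR (nat_lit 24) (nat_lit 384) (nat_lit 5)) (nat_lit 40) (nat_lit 384) = true := by decide +kernel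
theorem aa2_a : allZ2 (matEnt (wdsP P aaW) aaP) (nat_lit 52) (nat_lit 24) = true := by decide +kernel
theorem zz2_a : allZ2 (matEnt (wdsP P zzW) zzP) (nat_lit 40) (nat_lit 24) = true := by decide +kernel
theorem aa4_0 : allZ (aaD.ent aaP aaT 5) (nat_lit 0) (nat_lit 480) = true := by decide +kernel
theorem zz4_0 : allZ (zzD.ent zzP zzT 5) (nat_lit 0) (nat_lit 384) = true := by decide +kernel
theorem rlk : H16.allL (litChk yP (384 + (480 + 6)) B) [(true, [nat_lit 444], [nat_lit 4]), (true, [nat_lit 504], [nat_lit 16]), (true, [nat_lit 624], [nat_lit 192]), (true, [nat_lit 385], [nat_lit 1]), (true, [nat_lit 386], [nat_lit 2]), (true, [nat_lit 8, nat_lit 388], [nat_lit 388, nat_lit 96]), (true, [nat_lit 96, nat_lit 388], [nat_lit 388, nat_lit 107]), (true, [nat_lit 1, nat_lit 864], [nat_lit 864, nat_lit 1]), (true, [nat_lit 1, nat_lit 865], [nat_lit 865, nat_lit 2]),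 (true, [nat_lit 4, nat_lit 866], [nat_lit 866, nat_lit 4]), (true, [nat_lit 1, nat_lit 867], [nat_lit 867, nat_lit 100]), (true, [nat_lit 192, nat_lit 868], [nat_lit 868, nat_lit 192]), (true, [nat_lit 32, nat_lit 388], [nat_lit 388, nat_lit 869])] = true := by decide +kernel
theorem y3_a : allZ2 (extEnt P (nat_lit 8) xW) (nat_lit 8) (nat_lit 24) = true := by decide +kernel
theorem gk_0 : allZ (leEnt (pk yP [nat_lit 4, nat_lit 16, nat_lit 8, nat_lit 96, nat_lit 32, nat_lit 869]) P 6 B gW) (nat_lit 0) (nat_lit 8) = true := by decide +kernel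
theorem y1_a : allZ2 (permEnt P (nth 0 iv) (nat_lit 24)) (nat_lit 9) (nat_lit 24) = true := by decide +kernel
theorem yl_lt : H16.allL (ltAll 9) yl_W = true := by decide +kernel
theorem yll0_h : 0 < yll0.n ∧ 0 < yll0.K ∧ yll0.Pt 0 < 24 ∧ yll0.Q (yll0.Pt 0) = 0 := by decide +kernel
theorem yll1_h : 0 < yll1.n ∧ 0 < yll1.K ∧ yll1.Pt 0 < 24 ∧ yll1.Q (yll1.Pt 0) = 0 := by decide +kernel
theorem yll2_h : 0 < yll2.n ∧ 0 < yll2.K ∧ yll2.Pt 0 < 24 ∧ yll2.Q (yll2.Pt 0) = 0 := by decide +kernel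
theorem yll3_h : 0 < yll3.n ∧ 0 < yll3.K ∧ yll3.Pt 0 < 24 ∧ yll3.Q (yll3.Pt 0) = 0 := by decide +kernel
theorem yll4_h : 0 < yll4.n ∧ 0 < yll4.K ∧ yll4.Pt 0 < 24 ∧ yll4.Q (yll4.Pt 0) = 0 := by decide +kernel
theorem yc : nth 0 iv 8 = 8 ∧ H16.allL (ltAll 8) xW = true ∧ H16.allL (ltAll (8 + 1)) yl_W = true ∧ chainCard [yll0, yll1, yll2, yll3, yll4] = 2 * 95040 ∧ chainBase [yll0, yll1, yll2, yll3, yll4] = B ∧ ltAll 24 B = 0 ∧ 95040 ≠ 0 := by decide +kernel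
theorem zzc_lt : H16.allL (ltAll 9) zzc_W = true := by decide +kernel
theorem zzth_lt : H16.allL (ltAll 9) zzth_W = true := by decide +kernel
theorem zztl0_h : 0 < zztl0.n ∧ 0 < zztl0.K ∧ zztl0.Pt 0 < 24 ∧ zztl0.Q (zztl0.Pt 0) = 0 := by decide +kernel
theorem zztl1_h : 0 < zztl1.n ∧ 0 < zztl1.K ∧ zztl1.Pt 0 < 24 ∧ zztl1.Q (zztl1.Pt 0) = 0 := by decide +kernel
theorem zztl2_h : 0 < zztl2.n ∧ 0 < zztl2.K ∧ zztl2.Pt 0 < 24 ∧ zztl2.Q (zztl2.Pt 0) = 0 := by decide +kernel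
theorem zztl3_h : 0 < zztl3.n ∧ 0 < zztl3.K ∧ zztl3.Pt 0 < 24 ∧ zztl3.Q (zztl3.Pt 0) = 0 := by decide +kernel
theorem zztl4_h : 0 < zztl4.n ∧ 0 < zztl4.K ∧ zztl4.Pt 0 < 24 ∧ zztl4.Q (zztl4.Pt 0) = 0 := by decide +kernel
theorem zztl5_h : 0 < zztl5.n ∧ 0 < zztl5.K ∧ zztl5.Pt 0 < 24 ∧ zztl5.Q (zztl5.Pt 0) = 0 := by decide +kernel
theorem zzt_c : chainCard [zztl0, zztl1, zztl2, zztl3, zztl4, zztl5] = 190080 := by decide +kernel
theorem zze_lt : H16.allL (ltAll 9) zze_W = true := by decide +kernel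
theorem zzc5_h : 0 < zzc5.n ∧ 0 < zzc5.K ∧ zzc5.Pt 0 < 24 ∧ zzc5.Q (zzc5.Pt 0) = 0 := by decide +kernel
theorem zzc4_h : 0 < zzc4.n ∧ 0 < zzc4.K ∧ zzc4.Pt 0 < 24 ∧ zzc4.Q (zzc4.Pt 0) = 0 := by decide +kernel
theorem zztn1y22_lt : H16.allL (ltAll 9) zztn1y22_W = true := by decide +kernel
theorem zztr2k_lt : H16.allL (ltAll 9) zztr2k_W = true := by decide +kernel
theorem zzc2_h : 0 < zzc2.n ∧ 0 < zzc2.K ∧ zzc2.Pt 0 < 24 ∧ zzc2.Q (zzc2.Pt 0) = 0 := by decide +kernel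
theorem zzc0_h : 0 < zzc0.n ∧ 0 < zzc0.K ∧ zzc0.Pt 0 < 24 ∧ zzc0.Q (zzc0.Pt 0) = 0 := by decide +kernel
theorem zz_c : chainCard [zzc0, zzc2, zzc4, zzc5] = 384 ∧ topK [zzc0, zzc2, zzc4, zzc5] = 5 := by decide +kernel
theorem zz1 : H16.allL (ltAll 9) zzW = true := by decide +kernel
theorem zz5 : zzD.n = zzD.na * zzD.nb ∧ 0 < zzD.n ∧ (∀ j < 5, zzT j 0 < 24) ∧ ∀ β ∈ B, ∃ j < 5, zzT j 0 = β := by decide +kernel
theorem zz7 : 0 < 1 ∧ allZ (fun j => H16.force j (cmEnt zzP zzc_P B 0)) 0 40 = true := by decide +kernel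
theorem zz8 : ∀ k < 40, ltAll (8 + 1) (nth [] zzW k) = 0 ∧ ((nth [] zzW k).count 8 % 2 = 0 ↔ k < 12 ∨ 24 ≤ k) := by decide +kernel
theorem zz9 : sumL (fun β => Nat.xor (zzD.P zzP 1 β) (zzc_P 0 β)) B = 0 := by decide +kernel
theorem aac_lt : H16.allL (ltAll 9) aac_W = true := by decide +kernel
theorem aath_lt : H16.allL (ltAll 9) aath_W = true := by decide +kernel
theorem aatl0_h : 0 < aatl0.n ∧ 0 < aatl0.K ∧ aatl0.Pt 0 < 24 ∧ aatl0.Q (aatl0.Pt 0) = 0 := by decide +kernel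
theorem aatl1_h : 0 < aatl1.n ∧ 0 < aatl1.K ∧ aatl1.Pt 0 < 24 ∧ aatl1.Q (aatl1.Pt 0) = 0 := by decide +kernel
theorem aatl2_h : 0 < aatl2.n ∧ 0 < aatl2.K ∧ aatl2.Pt 0 < 24 ∧ aatl2.Q (aatl2.Pt 0) = 0 := by decide +kernel
theorem aatl3_h : 0 < aatl3.n ∧ 0 < aatl3.K ∧ aatl3.Pt 0 < 24 ∧ aatl3.Q (aatl3.Pt 0) = 0 := by decide +kernel
theorem aatl4_h : 0 < aatl4.n ∧ 0 < aatl4.K ∧ aatl4.Pt 0 < 24 ∧ aatl4.Q (aatl4.Pt 0) = 0 := by decide +kernel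
theorem aatl5_h : 0 < aatl5.n ∧ 0 < aatl5.K ∧ aatl5.Pt 0 < 24 ∧ aatl5.Q (aatl5.Pt 0) = 0 := by decide +kernel
theorem aat_c : chainCard [aatl0, aatl1, aatl2, aatl3, aatl4, aatl5] = 190080 := by decide +kernel
theorem aae_lt : H16.allL (ltAll 9) aae_W = true := by decide +kernel
theorem aac5_h : 0 < aac5.n ∧ 0 < aac5.K ∧ aac5.Pt 0 < 24 ∧ aac5.Q (aac5.Pt 0) = 0 := by decide +kernel
theorem aac4_h : 0 < aac4.n ∧ 0 < aac4.K ∧ aac4.Pt 0 < 24 ∧ aac4.Q (aac4.Pt 0) = 0 := by decide +kernel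
theorem aatn1y17_lt : H16.allL (ltAll 9) aatn1y17_W = true := by decide +kernel
theorem aatr2k_lt : H16.allL (ltAll 9) aatr2k_W = true := by decide +kernel
theorem aac2_h : 0 < aac2.n ∧ 0 < aac2.K ∧ aac2.Pt 0 < 24 ∧ aac2.Q (aac2.Pt 0) = 0 := by decide +kernel
theorem aatn3y4_lt : H16.allL (ltAll 9) aatn3y4_W = true := by decide +kernel
theorem aatr4k_lt : H16.allL (ltAll 9) aatr4k_W = true := by decide +kernel
theorem aac0_h : 0 < aac0.n ∧ 0 < aac0.K ∧ aac0.Pt 0 < 24 ∧ aac0.Q (aac0.Pt 0) = 0 := by decide +kernel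
theorem aa_c : chainCard [aac0, aac2, aac4, aac5] = 480 ∧ topK [aac0, aac2, aac4, aac5] = 5 := by decide +kernel
theorem aa1 : H16.allL (ltAll 9) aaW = true := by decide +kernel
theorem aa5 : aaD.n = aaD.na * aaD.nb ∧ 0 < aaD.n ∧ (∀ j < 5, aaT j 0 < 24) ∧ ∀ β ∈ B, ∃ j < 5, aaT j 0 = β := by decide +kernel
theorem aa7 : 0 < 1 ∧ allZ (fun j => H16.force j (cmEnt aaP aac_P B 0)) 0 52 = true := by decide +kernel
theorem aa8 : ∀ k < 52, ltAll (8 + 1) (nth [] aaW k) = 0 ∧ ((nth [] aaW k).count 8 % 2 = 0 ↔ k < 20 ∨ 40 ≤ k) := by decide +kernel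
theorem aa9 : sumL (fun β => Nat.xor (aaD.P aaP 60 β) (aac_P 0 β)) B = 0 := by decide +kernel
theorem ccx_lt : H16.allL (ltAll 9) ccx_W = true := by decide +kernel
theorem ccth_lt : H16.allL (ltAll 9) ccth_W = true := by decide +kernel
theorem cctl0_h : 0 < cctl0.n ∧ 0 < cctl0.K ∧ cctl0.Pt 0 < 24 ∧ cctl0.Q (cctl0.Pt 0) = 0 := by decide +kernel
theorem cctl1_h : 0 < cctl1.n ∧ 0 < cctl1.K ∧ cctl1.Pt 0 < 24 ∧ cctl1.Q (cctl1.Pt 0) = 0 := by decide +kernel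
theorem cctl2_h : 0 < cctl2.n ∧ 0 < cctl2.K ∧ cctl2.Pt 0 < 24 ∧ cctl2.Q (cctl2.Pt 0) = 0 := by decide +kernel
theorem cctl3_h : 0 < cctl3.n ∧ 0 < cctl3.K ∧ cctl3.Pt 0 < 24 ∧ cctl3.Q (cctl3.Pt 0) = 0 := by decide +kernel
theorem cctl4_h : 0 < cctl4.n ∧ 0 < cctl4.K ∧ cctl4.Pt 0 < 24 ∧ cctl4.Q (cctl4.Pt 0) = 0 := by decide +kernel
theorem cctl5_h : 0 < cctl5.n ∧ 0 < cctl5.K ∧ cctl5.Pt 0 < 24 ∧ cctl5.Q (cctl5.Pt 0) = 0 := by decide +kernel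
theorem cct_c : chainCard [cctl0, cctl1, cctl2, cctl3, cctl4, cctl5] = 190080 := by decide +kernel
theorem cce_lt : H16.allL (ltAll 9) cce_W = true := by decide +kernel
theorem ccc5_h : 0 < ccc5.n ∧ 0 < ccc5.K ∧ ccc5.Pt 0 < 24 ∧ ccc5.Q (ccc5.Pt 0) = 0 := by decide +kernel
theorem ccc4_h : 0 < ccc4.n ∧ 0 < ccc4.K ∧ ccc4.Pt 0 < 24 ∧ ccc4.Q (ccc4.Pt 0) = 0 := by decide +kernel
theorem cctn2y13_lt : H16.allL (ltAll 9) cctn2y13_W = true := by decide +kernel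
theorem cctr3k_lt : H16.allL (ltAll 9) cctr3k_W = true := by decide +kernel
theorem cctn3y6_lt : H16.allL (ltAll 9) cctn3y6_W = true := by decide +kernel
theorem cctr4k_lt : H16.allL (ltAll 9) cctr4k_W = true := by decide +kernel
theorem ccc0_h : 0 < ccc0.n ∧ 0 < ccc0.K ∧ ccc0.Pt 0 < 24 ∧ ccc0.Q (ccc0.Pt 0) = 0 := by decide +kernel
theorem cc_c : chainCard [ccc0, ccc4, ccc5] = 240 ∧ topK [ccc0, ccc4, ccc5] = 5 := by decide +kernel
theorem cc1 : 4 < 384 ∧ allZ (fun j => H16.force j (cmEnt cce_P (zzD.P zzP) B 4)) 0 5 = true := by decide +kernel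
theorem cc2 : sumL (fun β => Nat.xor (zzD.P zzP 192 β) (ccx_P 0 β)) B = 0 := by decide +kernel
theorem u_lt : H16.allL (ltAll 8) uW = true := by decide +kernel
theorem y2_a : allZ2 (matEnt H15.MM12.P P) (nat_lit 8) (nat_lit 24) = true := by decide +kernel
theorem zz_f5 : (Nat.ble zzc5.K 5 && Nat.ble (topK []) zzc5.K && Nat.beq (zzc5.Pt 0) (zztl5.Pt 0) && Nat.beq (ltAll 24 [zztl4.Pt 0, zztl3.Pt 0, zztl2.Pt 0, zztl1.Pt 0, zztl0.Pt 0]) 0 && kChk zze_P zzc_P zzc5.K 1 B [zztl4.Pt 0, zztl3.Pt 0, zztl2.Pt 0, zztl1.Pt 0, zztl0.Pt 0]) = true := by decide +kernel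
theorem aatn5_0 : (Nat.ble aatl0.K 10 && Nat.beq (ltAll 24 []) 0 && kChk aae_P aac_P aatn5.Kn 1 B [] && H16.allL (ltAll 1) aatn5.pre && planOK aath_P aac_P 1 (aatl0.Pt 0) aatn5.plan [aatl0, aatl1, aatl2, aatl3, aatl4, aatl5]) = true := by decide +kernel
theorem zz_f4 : (Nat.ble zzc4.K 5 && Nat.ble (topK [zzc5]) zzc4.K && Nat.beq (zzc4.Pt 0) (zztl4.Pt 0) && Nat.beq (ltAll 24 [zztl3.Pt 0, zztl2.Pt 0, zztl1.Pt 0, zztl0.Pt 0]) 0 && kChk zze_P zzc_P zzc4.K 1 B [zztl3.Pt 0, zztl2.Pt 0, zztl1.Pt 0, zztl0.Pt 0]) = true := by decide +kernel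
theorem aa_f0 : (Nat.ble aac0.K 5 && Nat.ble (topK [aac2, aac4, aac5]) aac0.K && Nat.beq (aac0.Pt 0) (aatl0.Pt 0) && Nat.beq (ltAll 24 []) 0 && kChk aae_P aac_P aac0.K 1 B []) = true := by decide +kernel
theorem zztn2_0 : (Nat.ble zztl5.K 14 && Nat.beq (ltAll 24 [zztl4.Pt 0, zztl3.Pt 0, zztl2.Pt 0, zztl1.Pt 0, zztl0.Pt 0]) 0 && kChk zztr2k_P zztn1y22_P zztn2.Kn 1 B [zztl4.Pt 0, zztl3.Pt 0, zztl2.Pt 0, zztl1.Pt 0, zztl0.Pt 0] && H16.allL (ltAll 1) zztn2.pre && planOK zzth_P zzc_P 1 (zztl5.Pt 0) zztn2.plan [zztl5]) = true := by decide +kernel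
theorem zz_f2 : (Nat.ble zzc2.K 5 && Nat.ble (topK [zzc4, zzc5]) zzc2.K && Nat.beq (zzc2.Pt 0) (zztl2.Pt 0) && Nat.beq (ltAll 24 [zztl1.Pt 0, zztl0.Pt 0]) 0 && kChk zze_P zzc_P zzc2.K 1 B [zztl1.Pt 0, zztl0.Pt 0]) = true := by decide +kernel
theorem zztn3_0 : (Nat.ble zztl2.K 14 && Nat.beq (ltAll 24 [zztl1.Pt 0, zztl0.Pt 0]) 0 && kChk zze_P zzc_P zztn3.Kn 1 B [zztl1.Pt 0, zztl0.Pt 0] && H16.allL (ltAll 1) zztn3.pre && planOK zzth_P zzc_P 1 (zztl2.Pt 0) zztn3.plan [zztl2, zztl3, zztl4, zztl5]) = true := by decide +kernel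
theorem zztn4_0 : (Nat.ble zztl0.K 14 && Nat.beq (ltAll 24 []) 0 && kChk zze_P zzc_P zztn4.Kn 1 B [] && H16.allL (ltAll 1) zztn4.pre && planOK zzth_P zzc_P 1 (zztl0.Pt 0) zztn4.plan [zztl0, zztl1, zztl2, zztl3, zztl4, zztl5]) = true := by decide +kernel
theorem aa_f2 : (Nat.ble aac2.K 5 && Nat.ble (topK [aac4, aac5]) aac2.K && Nat.beq (aac2.Pt 0) (aatl2.Pt 0) && Nat.beq (ltAll 24 [aatl1.Pt 0, aatl0.Pt 0]) 0 && kChk aae_P aac_P aac2.K 1 B [aatl1.Pt 0, aatl0.Pt 0]) = true := by decide +kernel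
theorem aa_f4 : (Nat.ble aac4.K 5 && Nat.ble (topK [aac5]) aac4.K && Nat.beq (aac4.Pt 0) (aatl4.Pt 0) && Nat.beq (ltAll 24 [aatl3.Pt 0, aatl2.Pt 0, aatl1.Pt 0, aatl0.Pt 0]) 0 && kChk aae_P aac_P aac4.K 1 B [aatl3.Pt 0, aatl2.Pt 0, aatl1.Pt 0, aatl0.Pt 0]) = true := by decide +kernel
theorem cc_f5 : (Nat.ble ccc5.K 5 && Nat.ble (topK []) ccc5.K && Nat.beq (ccc5.Pt 0) (cctl5.Pt 0) && Nat.beq (ltAll 24 [cctl4.Pt 0, cctl3.Pt 0, cctl2.Pt 0, cctl1.Pt 0, cctl0.Pt 0]) 0 && kChk cce_P ccx_P ccc5.K 1 B [cctl4.Pt 0, cctl3.Pt 0, cctl2.Pt 0, cctl1.Pt 0, cctl0.Pt 0]) = true := by decide +kernel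
theorem aa_f5 : (Nat.ble aac5.K 5 && Nat.ble (topK []) aac5.K && Nat.beq (aac5.Pt 0) (aatl5.Pt 0) && Nat.beq (ltAll 24 [aatl4.Pt 0, aatl3.Pt 0, aatl2.Pt 0, aatl1.Pt 0, aatl0.Pt 0]) 0 && kChk aae_P aac_P aac5.K 1 B [aatl4.Pt 0, aatl3.Pt 0, aatl2.Pt 0, aatl1.Pt 0, aatl0.Pt 0]) = true := by decide +kernel
theorem cc_f4 : (Nat.ble ccc4.K 5 && Nat.ble (topK [ccc5]) ccc4.K && Nat.beq (ccc4.Pt 0) (cctl4.Pt 0) && Nat.beq (ltAll 24 [cctl3.Pt 0, cctl2.Pt 0, cctl1.Pt 0, cctl0.Pt 0]) 0 && kChk cce_P ccx_P ccc4.K 1 B [cctl3.Pt 0, cctl2.Pt 0, cctl1.Pt 0, cctl0.Pt 0]) = true := by decide +kernel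
theorem zz6_0 : allZ (leEnt zzP zze_P 40 B zzL) (nat_lit 0) (nat_lit 5) = true := by decide +kernel
theorem aa6_0 : allZ (leEnt aaP aae_P 52 B aaL) (nat_lit 0) (nat_lit 5) = true := by decide +kernel
theorem aatn3_0 : (Nat.ble aatl2.K 10 && Nat.beq (ltAll 24 [aatl1.Pt 0, aatl0.Pt 0]) 0 && kChk aae_P aac_P aatn3.Kn 1 B [aatl1.Pt 0, aatl0.Pt 0] && H16.allL (ltAll 1) aatn3.pre && planOK aath_P aac_P 1 (aatl2.Pt 0) aatn3.plan [aatl2, aatl3, aatl4, aatl5]) = true := by decide +kernel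
theorem aatn3_1_0 : allZ (aatn3.ent P aath_P aac_P aac_P aae_P (nat_lit 9) (nat_lit 1) B aatl2 [aatl3, aatl4, aatl5] (memO aac2)) (nat_lit 0) (nat_lit 10) = true := by decide +kernel
theorem zz_f0 : (Nat.ble zzc0.K 5 && Nat.ble (topK [zzc2, zzc4, zzc5]) zzc0.K && Nat.beq (zzc0.Pt 0) (zztl0.Pt 0) && Nat.beq (ltAll 24 []) 0 && kChk zze_P zzc_P zzc0.K 1 B []) = true := by decide +kernel
theorem cctn2_1_0 : allZ (cctn2.ent P ccth_P ccx_P ccx_P cce_P (nat_lit 9) (nat_lit 1) B cctl2 [cctl3, cctl4, cctl5] (fun w => Nat.xor w (cctl2.Pt (nat_lit 0)))) (nat_lit 0) (nat_lit 11) = true := by decide +kernel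
theorem zztn1_0 : (Nat.ble zztl4.K 14 && Nat.beq (ltAll 24 [zztl3.Pt 0, zztl2.Pt 0, zztl1.Pt 0, zztl0.Pt 0]) 0 && kChk zze_P zzc_P zztn1.Kn 1 B [zztl3.Pt 0, zztl2.Pt 0, zztl1.Pt 0, zztl0.Pt 0] && H16.allL (ltAll 1) zztn1.pre && planOK zzth_P zzc_P 1 (zztl4.Pt 0) zztn1.plan [zztl4, zztl5]) = true := by decide +kernel
theorem cctn5_0 : (Nat.ble cctl0.K 13 && Nat.beq (ltAll 24 []) 0 && kChk cce_P ccx_P cctn5.Kn 1 B [] && H16.allL (ltAll 1) cctn5.pre && planOK ccth_P ccx_P 1 (cctl0.Pt 0) cctn5.plan [cctl0, cctl1, cctl2, cctl3, cctl4, cctl5]) = true := by decide +kernel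
theorem cctn3_0 : (Nat.ble cctl4.K 13 && Nat.beq (ltAll 24 [cctl3.Pt 0, cctl2.Pt 0, cctl1.Pt 0, cctl0.Pt 0]) 0 && kChk cctr3k_P cctn2y13_P cctn3.Kn 1 B [cctl3.Pt 0, cctl2.Pt 0, cctl1.Pt 0, cctl0.Pt 0] && H16.allL (ltAll 1) cctn3.pre && planOK ccth_P ccx_P 1 (cctl4.Pt 0) cctn3.plan [cctl4, cctl5]) = true := by decide +kernel
theorem cc_f0 : (Nat.ble ccc0.K 5 && Nat.ble (topK [ccc4, ccc5]) ccc0.K && Nat.beq (ccc0.Pt 0) (cctl0.Pt 0) && Nat.beq (ltAll 24 []) 0 && kChk cce_P ccx_P ccc0.K 1 B []) = true := by decide +kernel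
theorem aatn2_0 : (Nat.ble aatl5.K 10 && Nat.beq (ltAll 24 [aatl4.Pt 0, aatl3.Pt 0, aatl2.Pt 0, aatl1.Pt 0, aatl0.Pt 0]) 0 && kChk aatr2k_P aatn1y17_P aatn2.Kn 1 B [aatl4.Pt 0, aatl3.Pt 0, aatl2.Pt 0, aatl1.Pt 0, aatl0.Pt 0] && H16.allL (ltAll 1) aatn2.pre && planOK aath_P aac_P 1 (aatl5.Pt 0) aatn2.plan [aatl5]) = true := by decide +kernel
theorem aatn1_0 : (Nat.ble aatl4.K 10 && Nat.beq (ltAll 24 [aatl3.Pt 0, aatl2.Pt 0, aatl1.Pt 0, aatl0.Pt 0]) 0 && kChk aae_P aac_P aatn1.Kn 1 B [aatl3.Pt 0, aatl2.Pt 0, aatl1.Pt 0, aatl0.Pt 0] && H16.allL (ltAll 1) aatn1.pre && planOK aath_P aac_P 1 (aatl4.Pt 0) aatn1.plan [aatl4, aatl5]) = true := by decide +kernel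
theorem aatn4_0 : (Nat.ble aatl4.K 10 && Nat.beq (ltAll 24 [aatl3.Pt 0, aatl2.Pt 0, aatl1.Pt 0, aatl0.Pt 0]) 0 && kChk aatr4k_P aatn3y4_P aatn4.Kn 1 B [aatl3.Pt 0, aatl2.Pt 0, aatl1.Pt 0, aatl0.Pt 0] && H16.allL (ltAll 1) aatn4.pre && planOK aath_P aac_P 1 (aatl4.Pt 0) aatn4.plan [aatl4, aatl5]) = true := by decide +kernel
theorem zztn0_0 : (Nat.ble zztl5.K 14 && Nat.beq (ltAll 24 [zztl4.Pt 0, zztl3.Pt 0, zztl2.Pt 0, zztl1.Pt 0, zztl0.Pt 0]) 0 && kChk zze_P zzc_P zztn0.Kn 1 B [zztl4.Pt 0, zztl3.Pt 0, zztl2.Pt 0, zztl1.Pt 0, zztl0.Pt 0] && H16.allL (ltAll 1) zztn0.pre && planOK zzth_P zzc_P 1 (zztl5.Pt 0) zztn0.plan [zztl5]) = true := by decide +kernel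
theorem zztl0_e_0 : allZ (dent zztl0 zzth_P (nat_lit 24)) (nat_lit 0) (nat_lit 23) = true := by decide +kernel
theorem cctn4_0 : (Nat.ble cctl5.K 13 && Nat.beq (ltAll 24 [cctl4.Pt 0, cctl3.Pt 0, cctl2.Pt 0, cctl1.Pt 0, cctl0.Pt 0]) 0 && kChk cctr4k_P cctn3y6_P cctn4.Kn 1 B [cctl4.Pt 0, cctl3.Pt 0, cctl2.Pt 0, cctl1.Pt 0, cctl0.Pt 0] && H16.allL (ltAll 1) cctn4.pre && planOK ccth_P ccx_P 1 (cctl5.Pt 0) cctn4.plan [cctl5]) = true := by decide +kernel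
theorem ccc0_e_0 : allZ (dent ccc0 cce_P (nat_lit 24)) (nat_lit 0) (nat_lit 23) = true := by decide +kernel
theorem zztn4_1_0 : allZ (zztn4.ent P zzth_P zzc_P zzc_P zze_P (nat_lit 9) (nat_lit 1) B zztl0 [zztl1, zztl2, zztl3, zztl4, zztl5] (memO zzc0)) (nat_lit 0) (nat_lit 24) = true := by decide +kernel
theorem zztn1_1_0 : allZ (zztn1.ent P zzth_P zzc_P zzc_P zze_P (nat_lit 9) (nat_lit 1) B zztl4 [zztl5] (memO zzc4)) (nat_lit 0) (nat_lit 4) = true := by decide +kernel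
theorem cctl0_e_0 : allZ (dent cctl0 ccth_P (nat_lit 24)) (nat_lit 0) (nat_lit 23) = true := by decide +kernel
theorem cctn2_0 : (Nat.ble cctl2.K 13 && Nat.beq (ltAll 24 [cctl1.Pt 0, cctl0.Pt 0]) 0 && kChk cce_P ccx_P cctn2.Kn 1 B [cctl1.Pt 0, cctl0.Pt 0] && H16.allL (ltAll 1) cctn2.pre && planOK ccth_P ccx_P 1 (cctl2.Pt 0) cctn2.plan [cctl2, cctl3, cctl4, cctl5]) = true := by decide +kernel
theorem aatn1_1_0 : allZ (aatn1.ent P aath_P aac_P aac_P aae_P (nat_lit 9) (nat_lit 1) B aatl4 [aatl5] (memO aac4)) (nat_lit 0) (nat_lit 4) = true := by decide +kernel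
theorem cctn3_1_0 : allZ (cctn3.ent P ccth_P ccx_P cctn2y13_P cctr3k_P (nat_lit 9) (nat_lit 1) B cctl4 [cctl5] (fun _ => nat_lit 1)) (nat_lit 0) (nat_lit 5) = true := by decide +kernel
theorem aac0_e_0 : allZ (dent aac0 aae_P (nat_lit 24)) (nat_lit 0) (nat_lit 23) = true := by decide +kernel
theorem aatl0_e_0 : allZ (dent aatl0 aath_P (nat_lit 24)) (nat_lit 0) (nat_lit 23) = true := by decide +kernel
theorem yll0_e_0 : allZ (dent yll0 yl_P (nat_lit 24)) (nat_lit 0) (nat_lit 23) = true := by decide +kernel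
theorem aatn5_1_0 : allZ (aatn5.ent P aath_P aac_P aac_P aae_P (nat_lit 9) (nat_lit 1) B aatl0 [aatl1, aatl2, aatl3, aatl4, aatl5] (memO aac0)) (nat_lit 0) (nat_lit 24) = true := by decide +kernel
theorem cctn5_1_0 : allZ (cctn5.ent P ccth_P ccx_P ccx_P cce_P (nat_lit 9) (nat_lit 1) B cctl0 [cctl1, cctl2, cctl3, cctl4, cctl5] (memO ccc0)) (nat_lit 0) (nat_lit 24) = true := by decide +kernel
theorem cctn1_0 : (Nat.ble cctl4.K 13 && Nat.beq (ltAll 24 [cctl3.Pt 0, cctl2.Pt 0, cctl1.Pt 0, cctl0.Pt 0]) 0 && kChk cce_P ccx_P cctn1.Kn 1 B [cctl3.Pt 0, cctl2.Pt 0, cctl1.Pt 0, cctl0.Pt 0] && H16.allL (ltAll 1) cctn1.pre && planOK ccth_P ccx_P 1 (cctl4.Pt 0) cctn1.plan [cctl4, cctl5]) = true := by decide +kernel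
theorem zzc0_e_0 : allZ (dent zzc0 zze_P (nat_lit 24)) (nat_lit 0) (nat_lit 15) = true := by decide +kernel
theorem aatn0_0 : (Nat.ble aatl5.K 10 && Nat.beq (ltAll 24 [aatl4.Pt 0, aatl3.Pt 0, aatl2.Pt 0, aatl1.Pt 0, aatl0.Pt 0]) 0 && kChk aae_P aac_P aatn0.Kn 1 B [aatl4.Pt 0, aatl3.Pt 0, aatl2.Pt 0, aatl1.Pt 0, aatl0.Pt 0] && H16.allL (ltAll 1) aatn0.pre && planOK aath_P aac_P 1 (aatl5.Pt 0) aatn0.plan [aatl5]) = true := by decide +kernel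
theorem zztl1_e_0 : allZ (dent zztl1 zzth_P (nat_lit 24)) (nat_lit 0) (nat_lit 10) = true := by decide +kernel
theorem cctn0_0 : (Nat.ble cctl5.K 13 && Nat.beq (ltAll 24 [cctl4.Pt 0, cctl3.Pt 0, cctl2.Pt 0, cctl1.Pt 0, cctl0.Pt 0]) 0 && kChk cce_P ccx_P cctn0.Kn 1 B [cctl4.Pt 0, cctl3.Pt 0, cctl2.Pt 0, cctl1.Pt 0, cctl0.Pt 0] && H16.allL (ltAll 1) cctn0.pre && planOK ccth_P ccx_P 1 (cctl5.Pt 0) cctn0.plan [cctl5]) = true := by decide +kernel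
theorem cctl1_e_0 : allZ (dent cctl1 ccth_P (nat_lit 24)) (nat_lit 0) (nat_lit 11) = true := by decide +kernel
theorem zztl2_e_0 : allZ (dent zztl2 zzth_P (nat_lit 24)) (nat_lit 0) (nat_lit 9) = true := by decide +kernel
theorem zztl3_e_0 : allZ (dent zztl3 zzth_P (nat_lit 24)) (nat_lit 0) (nat_lit 8) = true := by decide +kernel
theorem zztn3_1_0 : allZ (zztn3.ent P zzth_P zzc_P zzc_P zze_P (nat_lit 9) (nat_lit 1) B zztl2 [zztl3, zztl4, zztl5] (memO zzc2)) (nat_lit 0) (nat_lit 10) = true := by decide +kernel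
theorem cctl2_e_0 : allZ (dent cctl2 ccth_P (nat_lit 24)) (nat_lit 0) (nat_lit 10) = true := by decide +kernel
theorem aatl1_e_0 : allZ (dent aatl1 aath_P (nat_lit 24)) (nat_lit 0) (nat_lit 10) = true := by decide +kernel
theorem yll1_e_0 : allZ (dent yll1 yl_P (nat_lit 24)) (nat_lit 0) (nat_lit 10) = true := by decide +kernel
theorem zz_f3 : (Nat.ble zztl3.K 14 && Nat.blt (nat_lit 6) 24 && fixLetters zzth_P zztl3.K (nat_lit 6) && Nat.beq (ltAll 1 [nat_lit 0]) 0 && Nat.beq (apW zzc_P [nat_lit 0] (nat_lit 6)) (zztl3.Pt 0)) = true := by decide +kernel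
theorem zz_f1 : (Nat.ble zztl1.K 14 && Nat.blt (nat_lit 4) 24 && fixLetters zzth_P zztl1.K (nat_lit 4) && Nat.beq (ltAll 1 [nat_lit 0]) 0 && Nat.beq (apW zzc_P [nat_lit 0] (nat_lit 4)) (zztl1.Pt 0)) = true := by decide +kernel
theorem zzt_f5 : (Nat.ble zztl5.K 14 && Nat.ble (topK []) zztl5.K && fixLetters zzth_P (topK []) (zztl5.Pt 0)) = true := by decide +kernel
theorem zzt_f4 : (Nat.ble zztl4.K 14 && Nat.ble (topK [zztl5]) zztl4.K && fixLetters zzth_P (topK [zztl5]) (zztl4.Pt 0)) = true := by decide +kernel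
theorem zzt_f3 : (Nat.ble zztl3.K 14 && Nat.ble (topK [zztl4, zztl5]) zztl3.K && fixLetters zzth_P (topK [zztl4, zztl5]) (zztl3.Pt 0)) = true := by decide +kernel
theorem zzt_f2 : (Nat.ble zztl2.K 14 && Nat.ble (topK [zztl3, zztl4, zztl5]) zztl2.K && fixLetters zzth_P (topK [zztl3, zztl4, zztl5]) (zztl2.Pt 0)) = true := by decide +kernel
theorem zzt_f1 : (Nat.ble zztl1.K 14 && Nat.ble (topK [zztl2, zztl3, zztl4, zztl5]) zztl1.K && fixLetters zzth_P (topK [zztl2, zztl3, zztl4, zztl5]) (zztl1.Pt 0)) = true := by decide +kernel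
theorem zzt_f0 : (Nat.ble zztl0.K 14 && Nat.ble (topK [zztl1, zztl2, zztl3, zztl4, zztl5]) zztl0.K && fixLetters zzth_P (topK [zztl1, zztl2, zztl3, zztl4, zztl5]) (zztl0.Pt 0)) = true := by decide +kernel
theorem aatl2_e_0 : allZ (dent aatl2 aath_P (nat_lit 24)) (nat_lit 0) (nat_lit 9) = true := by decide +kernel
theorem aatn4_1_0 : allZ (aatn4.ent P aath_P aac_P aatn3y4_P aatr4k_P (nat_lit 9) (nat_lit 1) B aatl4 [aatl5] (fun _ => nat_lit 1)) (nat_lit 0) (nat_lit 4) = true := by decide +kernel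
theorem yll2_e_0 : allZ (dent yll2 yl_P (nat_lit 24)) (nat_lit 0) (nat_lit 9) = true := by decide +kernel
theorem aatl3_e_0 : allZ (dent aatl3 aath_P (nat_lit 24)) (nat_lit 0) (nat_lit 8) = true := by decide +kernel
theorem yll3_e_0 : allZ (dent yll3 yl_P (nat_lit 24)) (nat_lit 0) (nat_lit 8) = true := by decide +kernel
theorem zzc2_e_0 : allZ (dent zzc2 zze_P (nat_lit 24)) (nat_lit 0) (nat_lit 5) = true := by decide +kernel
theorem cc_f3 : (Nat.ble cctl3.K 13 && Nat.blt (nat_lit 1) 24 && fixLetters ccth_P cctl3.K (nat_lit 1) && Nat.beq (ltAll 1 [nat_lit 0]) 0 && Nat.beq (apW ccx_P [nat_lit 0] (nat_lit 1)) (cctl3.Pt 0)) = true := by decide +kernel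
theorem cc_f1 : (Nat.ble cctl1.K 13 && Nat.blt (nat_lit 0) 24 && fixLetters ccth_P cctl1.K (nat_lit 0) && Nat.beq (ltAll 1 [nat_lit 0]) 0 && Nat.beq (apW ccx_P [nat_lit 0] (nat_lit 0)) (cctl1.Pt 0)) = true := by decide +kernel
theorem cct_f5 : (Nat.ble cctl5.K 13 && Nat.ble (topK []) cctl5.K && fixLetters ccth_P (topK []) (cctl5.Pt 0)) = true := by decide +kernel
theorem cct_f4 : (Nat.ble cctl4.K 13 && Nat.ble (topK [cctl5]) cctl4.K && fixLetters ccth_P (topK [cctl5]) (cctl4.Pt 0)) = true := by decide +kernel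
theorem cct_f3 : (Nat.ble cctl3.K 13 && Nat.ble (topK [cctl4, cctl5]) cctl3.K && fixLetters ccth_P (topK [cctl4, cctl5]) (cctl3.Pt 0)) = true := by decide +kernel
theorem cct_f2 : (Nat.ble cctl2.K 13 && Nat.ble (topK [cctl3, cctl4, cctl5]) cctl2.K && fixLetters ccth_P (topK [cctl3, cctl4, cctl5]) (cctl2.Pt 0)) = true := by decide +kernel
theorem cct_f1 : (Nat.ble cctl1.K 13 && Nat.ble (topK [cctl2, cctl3, cctl4, cctl5]) cctl1.K && fixLetters ccth_P (topK [cctl2, cctl3, cctl4, cctl5]) (cctl1.Pt 0)) = true := by decide +kernel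
theorem cct_f0 : (Nat.ble cctl0.K 13 && Nat.ble (topK [cctl1, cctl2, cctl3, cctl4, cctl5]) cctl0.K && fixLetters ccth_P (topK [cctl1, cctl2, cctl3, cctl4, cctl5]) (cctl0.Pt 0)) = true := by decide +kernel
theorem yll4_e_0 : allZ (dent yll4 yl_P (nat_lit 24)) (nat_lit 0) (nat_lit 7) = true := by decide +kernel
theorem cctl3_e_0 : allZ (dent cctl3 ccth_P (nat_lit 24)) (nat_lit 0) (nat_lit 5) = true := by decide +kernel
theorem cctn1_1_0 : allZ (cctn1.ent P ccth_P ccx_P ccx_P cce_P (nat_lit 9) (nat_lit 1) B cctl4 [cctl5] (memO ccc4)) (nat_lit 0) (nat_lit 5) = true := by decide +kernel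
theorem aa_f3 : (Nat.ble aatl3.K 10 && Nat.blt (nat_lit 2) 24 && fixLetters aath_P aatl3.K (nat_lit 2) && Nat.beq (ltAll 1 [nat_lit 0]) 0 && Nat.beq (apW aac_P [nat_lit 0] (nat_lit 2)) (aatl3.Pt 0)) = true := by decide +kernel
theorem aa_f1 : (Nat.ble aatl1.K 10 && Nat.blt (nat_lit 0) 24 && fixLetters aath_P aatl1.K (nat_lit 0) && Nat.beq (ltAll 1 [nat_lit 0]) 0 && Nat.beq (apW aac_P [nat_lit 0] (nat_lit 0)) (aatl1.Pt 0)) = true := by decide +kernel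
theorem zztl4_e_0 : allZ (dent zztl4 zzth_P (nat_lit 24)) (nat_lit 0) (nat_lit 3) = true := by decide +kernel
theorem ccc4_e_0 : allZ (dent ccc4 cce_P (nat_lit 24)) (nat_lit 0) (nat_lit 4) = true := by decide +kernel
theorem aatn2_1_0 : allZ (aatn2.ent P aath_P aac_P aatn1y17_P aatr2k_P (nat_lit 9) (nat_lit 1) B aatl5 [] (fun _ => nat_lit 1)) (nat_lit 0) (nat_lit 2) = true := by decide +kernel
theorem aac2_e_0 : allZ (dent aac2 aae_P (nat_lit 24)) (nat_lit 0) (nat_lit 4) = true := by decide +kernel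
theorem cctl4_e_0 : allZ (dent cctl4 ccth_P (nat_lit 24)) (nat_lit 0) (nat_lit 4) = true := by decide +kernel
theorem aat_f5 : (Nat.ble aatl5.K 10 && Nat.ble (topK []) aatl5.K && fixLetters aath_P (topK []) (aatl5.Pt 0)) = true := by decide +kernel
theorem aat_f4 : (Nat.ble aatl4.K 10 && Nat.ble (topK [aatl5]) aatl4.K && fixLetters aath_P (topK [aatl5]) (aatl4.Pt 0)) = true := by decide +kernel
theorem aat_f3 : (Nat.ble aatl3.K 10 && Nat.ble (topK [aatl4, aatl5]) aatl3.K && fixLetters aath_P (topK [aatl4, aatl5]) (aatl3.Pt 0)) = true := by decide +kernel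
theorem aat_f2 : (Nat.ble aatl2.K 10 && Nat.ble (topK [aatl3, aatl4, aatl5]) aatl2.K && fixLetters aath_P (topK [aatl3, aatl4, aatl5]) (aatl2.Pt 0)) = true := by decide +kernel
theorem aat_f1 : (Nat.ble aatl1.K 10 && Nat.ble (topK [aatl2, aatl3, aatl4, aatl5]) aatl1.K && fixLetters aath_P (topK [aatl2, aatl3, aatl4, aatl5]) (aatl1.Pt 0)) = true := by decide +kernel
theorem aat_f0 : (Nat.ble aatl0.K 10 && Nat.ble (topK [aatl1, aatl2, aatl3, aatl4, aatl5]) aatl0.K && fixLetters aath_P (topK [aatl1, aatl2, aatl3, aatl4, aatl5]) (aatl0.Pt 0)) = true := by decide +kernel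
theorem zztn2_1_0 : allZ (zztn2.ent P zzth_P zzc_P zztn1y22_P zztr2k_P (nat_lit 9) (nat_lit 1) B zztl5 [] (fun _ => nat_lit 1)) (nat_lit 0) (nat_lit 2) = true := by decide +kernel
theorem cctn4_1_0 : allZ (cctn4.ent P ccth_P ccx_P cctn3y6_P cctr4k_P (nat_lit 9) (nat_lit 1) B cctl5 [] (fun _ => nat_lit 1)) (nat_lit 0) (nat_lit 2) = true := by decide +kernel
theorem yl_f4 : (Nat.ble yll4.K 9 && Nat.ble (topK []) yll4.K && fixLetters yl_P (topK []) (yll4.Pt 0)) = true := by decide +kernel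
theorem yl_f3 : (Nat.ble yll3.K 9 && Nat.ble (topK [yll4]) yll3.K && fixLetters yl_P (topK [yll4]) (yll3.Pt 0)) = true := by decide +kernel
theorem yl_f2 : (Nat.ble yll2.K 9 && Nat.ble (topK [yll3, yll4]) yll2.K && fixLetters yl_P (topK [yll3, yll4]) (yll2.Pt 0)) = true := by decide +kernel
theorem yl_f1 : (Nat.ble yll1.K 9 && Nat.ble (topK [yll2, yll3, yll4]) yll1.K && fixLetters yl_P (topK [yll2, yll3, yll4]) (yll1.Pt 0)) = true := by decide +kernel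
theorem yl_f0 : (Nat.ble yll0.K 9 && Nat.ble (topK [yll1, yll2, yll3, yll4]) yll0.K && fixLetters yl_P (topK [yll1, yll2, yll3, yll4]) (yll0.Pt 0)) = true := by decide +kernel
theorem aatl4_e_0 : allZ (dent aatl4 aath_P (nat_lit 24)) (nat_lit 0) (nat_lit 3) = true := by decide +kernel
theorem zztn0_1_0 : allZ (zztn0.ent P zzth_P zzc_P zzc_P zze_P (nat_lit 9) (nat_lit 1) B zztl5 [] (memO zzc5)) (nat_lit 0) (nat_lit 2) = true := by decide +kernel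
theorem aatn0_1_0 : allZ (aatn0.ent P aath_P aac_P aac_P aae_P (nat_lit 9) (nat_lit 1) B aatl5 [] (memO aac5)) (nat_lit 0) (nat_lit 2) = true := by decide +kernel
theorem cctn0_1_0 : allZ (cctn0.ent P ccth_P ccx_P ccx_P cce_P (nat_lit 9) (nat_lit 1) B cctl5 [] (memO ccc5)) (nat_lit 0) (nat_lit 2) = true := by decide +kernel
theorem zztl5_e_0 : allZ (dent zztl5 zzth_P (nat_lit 24)) (nat_lit 0) (nat_lit 1) = true := by decide +kernel
theorem zzc5_e_0 : allZ (dent zzc5 zze_P (nat_lit 24)) (nat_lit 0) (nat_lit 1) = true := by decide +kernel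
theorem zzc4_e_0 : allZ (dent zzc4 zze_P (nat_lit 24)) (nat_lit 0) (nat_lit 1) = true := by decide +kernel
theorem aac4_e_0 : allZ (dent aac4 aae_P (nat_lit 24)) (nat_lit 0) (nat_lit 1) = true := by decide +kernel
theorem aatl5_e_0 : allZ (dent aatl5 aath_P (nat_lit 24)) (nat_lit 0) (nat_lit 1) = true := by decide +kernel
theorem aac5_e_0 : allZ (dent aac5 aae_P (nat_lit 24)) (nat_lit 0) (nat_lit 1) = true := by decide +kernel
theorem cctl5_e_0 : allZ (dent cctl5 ccth_P (nat_lit 24)) (nat_lit 0) (nat_lit 1) = true := by decide +kernel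
theorem ccc5_e_0 : allZ (dent ccc5 cce_P (nat_lit 24)) (nat_lit 0) (nat_lit 1) = true := by decide +kernel

end H15.MT
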